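import Groth.Agent.PnCoh.Chow.Closed

/-!
# Chow's lemma for integral schemes proper over an affine base
-/

universe u

open CategoryTheory CategoryTheory.Limits AlgebraicGeometry TopologicalSpace Opposite MvPolynomial

noncomputable section

namespace Groth.Agent.PnCoh.Chow

variable {A : Type u} [CommRing A] {X : Scheme.{u}}

theorem exists_gens (f : X ⟶ Spec (CommRingCat.of A)) [LocallyOfFiniteType f] {U : X.Opens}
    (hU : IsAffineOpen U) :
    ∃ (k : ℕ) (s : Fin k → Γ(X, U)), Function.Surjective (eval₂Hom (aHom f U) s) := by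
  have h : (aHom f U).FiniteType :=
    RingHom.FiniteType.comp (f.finiteType_appLE (isAffineOpen_top _) hU le_top)
      (RingHom.FiniteType.of_surjective _
        (Scheme.ΓSpecIso (CommRingCat.of A)).commRingCatIsoToRingEquiv.symm.surjective)
  letI := (aHom f U).toAlgebra
  obtain ⟨k, φ, hφ⟩ := Algebra.FiniteType.iff_quotient_mvPolynomial''.1 (show Algebra.FiniteType A Γ(X, U) from h)
  refine ⟨k, fun a => φ (MvPolynomial.X a), ?_⟩
  have : eval₂Hom (aHom f U) (fun a => φ (MvPolynomial.X a)) = φ.toRingHom :=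
    MvPolynomial.ringHom_ext (fun c => by rw [eval₂Hom_C]; exact (φ.commutes c).symm)
      (fun a => by rw [eval₂Hom_X']; rfl)
  rw [this]
  exact hφ

theorem exists_data (f : X ⟶ Spec (CommRingCat.of A)) [IsIntegral X] [LocallyOfFiniteType f]
    [QuasiCompact f] : Nonempty (Data f) := by
  haveI : CompactSpace X := QuasiCompact.compactSpace_of_compactSpace f
  have hx : ∀ x : X, ∃ U : X.Opens, IsAffineOpen U ∧ x ∈ U := fun x => (by obtain ⟨_, ⟨U, hU, rfl⟩, hxU, -⟩ := X.isBasis_affineOpens.exists_subset_of_mem_open (Set.mem_univ x) isOpen_univ; exact ⟨U, hU, hxU⟩)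
  choose V hV hxV using hx
  obtain ⟨T, hT⟩ := isCompact_univ.elim_finite_subcover (fun x : X => (V x : Set X))
    (fun x => (V x).2) (fun x _ => Set.mem_iUnion.2 ⟨x, hxV x⟩)
  let m := T.card
  let U : Fin m → X.Opens := fun i => V (T.equivFin.symm i).1
  have hcov : ⨆ i, U i = ⊤ := top_le_iff.1 fun x _ => by
    obtain ⟨t, ht, hxt⟩ := Set.mem_iUnion₂.1 (hT (Set.mem_univ x))
    exact Opens.mem_iSup.2 ⟨T.equivFin ⟨t, ht⟩, by
      show x ∈ V (T.equivFin.symm (T.equivFin ⟨t, ht⟩)).1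
      rw [Equiv.symm_apply_apply]
      exact hxt⟩
  have hη : ∀ i, genericPoint X ∈ U i := fun i =>
    ((genericPoint_spec X).mem_open_set_iff (U i).2).2 (by
      simpa using ⟨(T.equivFin.symm i).1, hxV _⟩)
  let U₀ : X.Opens := ⨅ i, U i
  have hηU₀ : genericPoint X ∈ U₀ := by
    have : (U₀ : Set X) = ⋂ i, (U i : Set X) := by
      rw [Opens.coe_iInf]
    show genericPoint X ∈ (U₀ : Set X)
    rw [this]
    exact Set.mem_iInter.2 hη
  obtain ⟨_, ⟨(W : X.Opens), hW, rfl⟩, hηW, hWU⟩ :=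
    X.isBasis_affineOpens.exists_subset_of_mem_open hηU₀ U₀.2
  haveI : Nonempty (Scheme.Opens.toScheme (X := X) W) := ⟨⟨_, hηW⟩⟩
  choose k s hs using fun i => exists_gens f (hV (T.equivFin.symm i).1)
  exact ⟨{
    W₀ := (Scheme.Opens.toScheme (X := X) W)
    j := (Scheme.Opens.ι (X := X) W)
    openImm := inferInstance
    integral := isIntegral_of_isOpenImmersion (Scheme.Opens.ι (X := X) W)
    dominant := ⟨by
      rw [denseRange_iff_closure_range, Scheme.Opens.range_ι]
      exact (W.2.dense ⟨_, hηW⟩).closure_eq⟩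
    m := m
    U := U
    hU := fun i => hV _
    hcov := hcov
    k := k
    s := s
    hgen := hs
    hle := fun i w _ => (iInf_le U i) (hWU w.2) }⟩

/-- Chow's lemma for an integral scheme proper over an affine base. -/
theorem chow_integral (f : X ⟶ Spec (CommRingCat.of A)) [IsIntegral X] [IsProper f] :
    ∃ (N : ℕ) (X' : Scheme.{u}) (π : X' ⟶ X) (p : X' ⟶ CohB1.ProjSpace N A),
      IsIntegral X' ∧ IsClosedImmersion p ∧ p ≫ CohB1.ProjSpace.toSpec N A = π ≫ f ∧ IsProper π ∧
      ∃ U : X.Opens, Nonempty U.toScheme ∧ IsIso (π ∣_ U) := by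
  obtain ⟨D⟩ := exists_data f
  refine ⟨D.N, D.X', D.π, D.p, inferInstance, D.isClosedImmersion_p, D.π_f.symm, inferInstance,
    D.j.opensRange, ⟨⟨D.j (genericPoint D.W₀), ⟨_, rfl⟩⟩⟩, D.isIso_π⟩

end Groth.Agent.PnCoh.Chow
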