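import Groth.Agent.PnCoh.Chow.Relative
import Groth.Agent.PnCoh.Chow.Exists

/-!
# A module with finite cohomology supported on all of an integral proper scheme
-/

universe u

set_option backward.isDefEq.respectTransparency false
set_option backward.isDefEq.respectTransparency.types false
set_option linter.style.haveILetI false

open CategoryTheory CategoryTheory.Limits AlgebraicGeometry TopologicalSpace Opposite MvPolynomial

noncomputable section

namespace Groth.Agent.PnCoh.Chow

open Groth.Agent.AModX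

theorem bijective_germ_smul_of_frame {X : Scheme.{u}} {M : X.Modules} {U : X.Opens} {e : Γ(M, U)}
    (he : InvX.IsFrame e) {x : X} (hx : x ∈ U) :
    Function.Bijective fun r : X.presheaf.stalk x => r • M.presheaf.germ U x hx e := by
  have key : ∀ (W : X.Opens) (hW : W ≤ U) (hxW : x ∈ W) (c : Γ(X, W)),
      X.presheaf.germ W x hxW c • M.presheaf.germ U x hx e =
        M.presheaf.germ W x hxW (c • res M hW e) := fun W hW hxW c => by
    rw [QCoh.germ_smul']
    congr 1
    exact (TopCat.Presheaf.germ_res_apply (C := Ab) M.presheaf (homOfLE hW) x hxW e).symm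
  constructor
  · intro r r' h
    obtain ⟨W₁, hxW₁, c₁, rfl⟩ := X.presheaf.exists_germ_eq r
    obtain ⟨W₂, hxW₂, c₂, rfl⟩ := X.presheaf.exists_germ_eq r'
    let W : X.Opens := W₁ ⊓ W₂ ⊓ U
    have hxW : x ∈ W := ⟨⟨hxW₁, hxW₂⟩, hx⟩
    rw [← X.presheaf.germ_res_apply (homOfLE (inf_le_left.trans inf_le_left : W ≤ W₁)) x hxW,
      ← X.presheaf.germ_res_apply (homOfLE (inf_le_left.trans inf_le_right : W ≤ W₂)) x hxW] at h ⊢
    beta_reduce at h
    rw [key W inf_le_right hxW, key W inf_le_right hxW] at h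
    obtain ⟨W', hxW', k, k', hk⟩ := TopCat.Presheaf.germ_eq (C := Ab) M.presheaf x hxW hxW _ _ h
    change res M k.le _ = res M k'.le _ at hk
    rw [res_smul, res_smul, res_res] at hk
    rw [← X.presheaf.germ_res_apply k x hxW', ← X.presheaf.germ_res_apply k x hxW']
    exact congrArg _ ((he W' (k.le.trans inf_le_right)).1 hk)
  · intro m
    obtain ⟨W₀, hxW₀, s, rfl⟩ := TopCat.Presheaf.exists_germ_eq (C := Ab) M.presheaf m
    let W : X.Opens := W₀ ⊓ U
    have hxW : x ∈ W := ⟨hxW₀, hx⟩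
    obtain ⟨c, hc⟩ := he.exists_coord (inf_le_right : W ≤ U) (res M (inf_le_left : W ≤ W₀) s)
    refine ⟨X.presheaf.germ W x hxW c, ?_⟩
    beta_reduce
    rw [key W inf_le_right hxW, ← hc]
    exact TopCat.Presheaf.germ_res_apply (C := Ab) M.presheaf (homOfLE inf_le_left) x hxW s

theorem nonempty_stalk_equiv_residueField {X : Scheme.{u}} [IsIntegral X] {M : X.Modules} {U : X.Opens}
    {e : Γ(M, U)} (he : InvX.IsFrame e) (hη : genericPoint X ∈ U) :
    Nonempty ((M.presheaf.stalk (genericPoint X)) ≃ₗ[X.presheaf.stalk (genericPoint X)]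
      IsLocalRing.ResidueField (X.presheaf.stalk (genericPoint X))) := by
  have hF : IsField (X.presheaf.stalk (genericPoint X)) :=
    Field.toIsField X.functionField
  have hres : Function.Bijective (IsLocalRing.residue (X.presheaf.stalk (genericPoint X))) :=
    ⟨(injective_iff_map_eq_zero _).2 fun r hr => by
      rwa [IsLocalRing.residue_eq_zero_iff, IsLocalRing.isField_iff_maximalIdeal_eq.1 hF,
        Ideal.mem_bot] at hr, IsLocalRing.residue_surjective⟩
  let e₁ := LinearEquiv.ofBijective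
    (LinearMap.toSpanSingleton (X.presheaf.stalk (genericPoint X))
      (M.presheaf.stalk (genericPoint X)) (M.presheaf.germ U (genericPoint X) hη e))
    (bijective_germ_smul_of_frame he hη)
  exact ⟨e₁.symm.trans (LinearEquiv.ofBijective
    (Algebra.linearMap (X.presheaf.stalk (genericPoint X))
      (IsLocalRing.ResidueField (X.presheaf.stalk (genericPoint X)))) hres)⟩

theorem isFrame_push_of_isIso {X X' : Scheme.{u}} (π : X' ⟶ X) {U : X.Opens} [IsIso (π ∣_ U)]
    {M : X'.Modules} {W : X.Opens} (hW : W ≤ U) {O : X'.Opens} (hO : π ⁻¹ᵁ W ≤ O) {e : Γ(M, O)}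
    (he : InvX.IsFrame e) :
    InvX.IsFrame (M := (Coh.push π).obj M) (U := W) (res M hO e) := by
  intro W' hW'
  obtain ⟨W'', rfl⟩ : ∃ W'', U.ι ''ᵁ W'' = W' := ⟨U.ι ⁻¹ᵁ W', by
    rw [Scheme.Hom.image_preimage_eq_opensRange_inf, Scheme.Opens.opensRange_ι]
    exact inf_eq_right.mpr (hW'.trans hW)⟩
  have happ : IsIso (π.app (U.ι ''ᵁ W'')) := by
    have h1 : IsIso ((π ∣_ U).app W'') := inferInstance
    rw [morphismRestrict_app] at h1
    exact @IsIso.of_isIso_comp_right _ _ _ _ _ _ _ inferInstance h1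
  have hb := ((he.res hO) (π ⁻¹ᵁ (U.ι ''ᵁ W'')) (π.preimage_mono hW')).comp
    ((ConcreteCategory.isIso_iff_bijective _).1 happ)
  exact hb

/-- An integral scheme proper over a Noetherian affine base carries a coherent module with full
support, of length one at the generic point and with finite cohomology. -/
theorem exists_devissage_module (A : Type u) [CommRing A] [IsNoetherianRing A] (X : Scheme.{u})
    [IsIntegral X] [X.Over (Spec (CommRingCat.of A))] [IsProper (X ↘ Spec (CommRingCat.of A))] :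
    ∃ G : X.Modules, Coh.IsCoh G ∧ CohB1.support G = Set.univ ∧
      Nonempty ((G.presheaf.stalk (genericPoint X)) ≃ₗ[X.presheaf.stalk (genericPoint X)]
        IsLocalRing.ResidueField (X.presheaf.stalk (genericPoint X))) ∧
      ∀ q, Module.Finite A (Coh.HH X G q) := by
  classical
  let f : X ⟶ Spec (CommRingCat.of A) := X ↘ Spec (CommRingCat.of A)
  obtain ⟨N, X', π, p, hint, hp, hpf, hπ, U, hU, hiso⟩ := chow_integral f
  haveI : CompactSpace X := QuasiCompact.compactSpace_of_compactSpace f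
  haveI : IsLocallyNoetherian X := LocallyOfFiniteType.isLocallyNoetherian f
  haveI : IsNoetherian X := { __ := ‹IsLocallyNoetherian X›, __ := ‹CompactSpace X› }
  haveI : X.IsSeparated := ⟨by
    rw [← terminal.comp_from f]
    exact MorphismProperty.comp_mem @IsSeparated _ _ inferInstance inferInstance⟩
  obtain ⟨s, hs, hcov⟩ := isCompact_iff_finite_and_eq_biUnion_affineOpens.mp
    (show IsCompact ((⊤ : X.Opens) : Set X) by simpa using isCompact_univ)
  haveI := hs.to_subtype
  have hcov' : ∀ x : X, ∃ i : s, x ∈ i.1.1 := fun x => by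
    have hx : x ∈ (⊤ : X.Opens) := trivial
    rw [hcov] at hx
    obtain ⟨V, hV, hxV⟩ := by simpa only [Opens.mem_iSup, exists_prop] using hx
    exact ⟨⟨V, hV⟩, hxV⟩
  haveI : ∀ i : s, IsNoetherianRing Γ(X, i.1.1) := fun i => IsLocallyNoetherian.component_noetherian i.1
  choose d₀ hd₀ using fun i : s => exists_rel_vanishing f π p (V := i.1.1) i.1.2 hpf
  haveI := Fintype.ofFinite s
  let d : ℕ := Finset.univ.sup d₀
  let M := pullTw p (d : ℤ)
  let G := (Coh.push π).obj M
  have hGq : Coh.IsQCoh G := QCoh.isQCoh_pushforward π (isQCoh_pullTw p _)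
  have hGc : Coh.IsCoh G := ⟨hGq, QCoh.isFT_of_finite hGq (fun i : s => i.1.1)
    (IsOpenCover.mk (top_le_iff.1 fun x _ => Opens.mem_iSup.2 (hcov' x))) (fun i => i.1.2)
    (fun i => finite_sections_push f π p i.1.2 hpf d)⟩
  -- a frame of `G` near the generic point
  have hη : genericPoint X ∈ U := ((genericPoint_spec X).mem_open_set_iff U.2).2
    (by obtain ⟨u⟩ := hU; exact ⟨u.1, trivial, u.2⟩)
  obtain ⟨x', hx'⟩ : ∃ x' : (π ⁻¹ᵁ U).toScheme, (π ∣_ U) x' = ⟨genericPoint X, hη⟩ :=
    (TopCat.homeoOfIso (asIso (π ∣_ U).base)).surjective _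
  obtain ⟨⟨l⟩, hl⟩ := cov_coord A (p x'.1)
  let O : X'.Opens := p ⁻¹ᵁ Proj.basicOpen (CohB1.polyGrading N A) (MvPolynomial.X l)
  let W : X.Opens := U.ι ''ᵁ (inv (π ∣_ U) ⁻¹ᵁ ((π ⁻¹ᵁ U).ι ⁻¹ᵁ O))
  have hWU : W ≤ U := U.ι_image_le _
  have hW : π ⁻¹ᵁ W ≤ O := by
    intro y hy
    obtain ⟨w, hw, hwy⟩ := hy
    have hyU : π y ∈ U := hwy ▸ w.2
    have h1 : w = (π ∣_ U) ⟨y, hyU⟩ := Subtype.ext (hwy.trans (by
      rw [morphismRestrict_base_coe]))
    have h2 : (π ⁻¹ᵁ U).ι (inv (π ∣_ U) w) ∈ O := hw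
    rw [h1, ← Scheme.Hom.comp_apply (π ∣_ U), IsIso.hom_inv_id] at h2
    exact h2
  have hηW : genericPoint X ∈ W := by
    refine ⟨⟨genericPoint X, hη⟩, ?_, rfl⟩
    show (π ⁻¹ᵁ U).ι (inv (π ∣_ U) ⟨genericPoint X, hη⟩) ∈ O
    rw [← hx', ← Scheme.Hom.comp_apply (π ∣_ U), IsIso.hom_inv_id]
    exact hl
  obtain ⟨est⟩ := nonempty_stalk_equiv_residueField
    (isFrame_push_of_isIso π hWU hW (isFrame_pFrame p (ProjPt.X_mem l) (d : ℤ))) hηW
  have hsupp : genericPoint X ∈ CohB1.support G := (QCoh.simpleAt_of_residueField hGq _ est).2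
  refine ⟨G, hGc, Set.eq_univ_of_univ_subset ?_, ⟨est⟩, fun q => ?_⟩
  · rw [← genericPoint_closure]
    exact (QCoh.isClosed_support_of_isFT hGc.1 hGc.2).closure_subset_iff.2 (Set.singleton_subset_iff.2 hsupp)
  · letI : X'.Over (Spec (CommRingCat.of A)) := ⟨π ≫ f⟩
    haveI hfin : Module.Finite A (Coh.HH X' M q) :=
      Finite.closedImm_finite_HH N A p hpf M (isCoh_pullTw p _) q
    let B : Opens X → Prop := fun W => ∃ (i : s) (b : Γ(X, i.1.1)), W = X.basicOpen b
    have hB : ∀ (U : Opens X) (y : X), y ∈ U → ∃ W, W ≤ U ∧ y ∈ W ∧ B W := fun U y hy => by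
      obtain ⟨i, hi⟩ := hcov' y
      obtain ⟨b, hbU, hyb⟩ := i.1.2.exists_basicOpen_le (V := U) ⟨y, hy⟩ hi
      exact ⟨X.basicOpen b, hbU, hyb, i, b, rfl⟩
    have hnat := H_push_equiv_natural_of_HU (Y := X.toPresheafedSpace.carrier) π.base B hB
      (QCoh.abSheaf M) (fun W hW r => by
        obtain ⟨i, b, rfl⟩ := hW
        exact subsingleton_HU_preimage_basicOpen f π p i.1.2 hpf d b r
          (hd₀ i d (Finset.le_sup (Finset.mem_univ i)) r)) q
    obtain ⟨eHH⟩ := nonempty_linearEquiv_of_natPushEquiv A π rfl M q hnat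
    exact Module.Finite.equiv eHH

end Groth.Agent.PnCoh.Chow
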