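import Groth.Prelude.Def_CohB1
import Mathlib.AlgebraicGeometry.ProjectiveSpectrum.Proper
import Mathlib.RingTheory.MvPolynomial.Homogeneous

/-!
# `P^n_A` is proper over `Spec A`
-/

universe u

open CategoryTheory AlgebraicGeometry

namespace Groth.Agent.PnCoh.Chow

theorem isProper_toSpec (n : ℕ) (R : Type u) [CommRing R] :
    IsProper (CohB1.ProjSpace.toSpec n R) := by
  haveI : IsScalarTower R (CohB1.polyGrading n R 0) (MvPolynomial (Fin (n + 1)) R) :=
    IsScalarTower.of_algebraMap_eq' (R := R) (S := CohB1.polyGrading n R 0)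
      (A := MvPolynomial (Fin (n + 1)) R) (RingHom.ext fun _ => rfl)
  haveI : Algebra.FiniteType (CohB1.polyGrading n R 0) (MvPolynomial (Fin (n + 1)) R) :=
    Algebra.FiniteType.of_restrictScalars_finiteType R _ _
  haveI : IsIso (CommRingCat.ofHom (algebraMap R (CohB1.polyGrading n R 0))) := by
    rw [ConcreteCategory.isIso_iff_bijective]
    refine ⟨fun a b h => MvPolynomial.C_injective _ _ (congrArg Subtype.val h), fun ⟨p, hp⟩ => ?_⟩
    exact ⟨p.coeff 0, Subtype.ext (MvPolynomial.totalDegree_eq_zero_iff_eq_C.1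
      (Nat.le_zero.1 ((MvPolynomial.mem_homogeneousSubmodule _ _).1 hp).totalDegree_le)).symm⟩
  have h1 : IsProper (Proj.toSpecZero (CohB1.polyGrading n R)) := inferInstance
  have h2 : IsProper (Spec.map (CommRingCat.ofHom (algebraMap R (CohB1.polyGrading n R 0)))) :=
    inferInstance
  exact MorphismProperty.comp_mem @IsProper _ _ h1 h2

end Groth.Agent.PnCoh.Chow
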