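import Groth.Agent.InvX.Pullback
import Groth.Agent.ProjUPX.Unique
import Groth.Agent.PnCoh.TwistQCoh

/-!
# The frames `t ^ d` of `O(d)` and their inverse images
-/

universe u

open CategoryTheory AlgebraicGeometry TopologicalSpace Opposite HomogeneousLocalization

noncomputable section

namespace Groth.Agent.PnCoh.Chow

open Groth.Agent.AModX

variable {R A : Type u} [CommRing R] [CommRing A] [Algebra R A]
  {𝒜 : ℕ → Submodule R A} [GradedAlgebra 𝒜]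

/-- The ratio `a / t`. -/
def sRatio {a t : A} (ha : a ∈ 𝒜 1) (ht : t ∈ 𝒜 1) : Γ(Proj 𝒜, Proj.basicOpen 𝒜 t) :=
  (Proj.awayToSection 𝒜 t).hom (Away.mk 𝒜 ht 1 a (by rwa [one_smul]))

theorem sRatio_val {a t : A} (ha : a ∈ 𝒜 1) (ht : t ∈ 𝒜 1) (x : Proj.basicOpen 𝒜 t) :
    ((sRatio ha ht).1 x).val = (Localization.mk a ⟨t, x.2⟩ : Twist.Loc 𝒜 x.1) := by
  erw [sRatio, ProjectiveSpectrum.Proj.awayToSection_apply]
  rw [Away.val_mk, Localization.mk_eq_mk' (M := Submonoid.powers t), IsLocalization.map_mk',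
    ← Localization.mk_eq_mk', Localization.mk_eq_mk_iff, Localization.r_iff_exists]
  exact ⟨1, by simp⟩

theorem nonVan_basicOpen (t : A) : NonVan (𝒜 := 𝒜) t (Proj.basicOpen 𝒜 t) := fun x => x.2

/-- `t ^ d` as a section of `O(d)` on the basic open of `t`. -/
def twF {t : A} (ht : t ∈ 𝒜 1) (d : ℤ) : Γ(Twist.twist 𝒜 d, Proj.basicOpen 𝒜 t) :=
  twPow ht d (nonVan_basicOpen t)

theorem isFrame_twF {t : A} (ht : t ∈ 𝒜 1) (d : ℤ) : InvX.IsFrame (twF ht d) := by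
  intro V hV
  exact trivMap_bijective ht d (U := V) fun x => hV x.2

theorem res_twF {a b : A} (ha : a ∈ 𝒜 1) (hb : b ∈ 𝒜 1) (d : ℕ) {W : (Proj 𝒜).Opens}
    (hWa : W ≤ Proj.basicOpen 𝒜 a) (hWb : W ≤ Proj.basicOpen 𝒜 b) :
    res (Twist.twist 𝒜 (d : ℤ)) hWb (twF hb d) =
      resR hWa (sRatio hb ha) ^ d • res (Twist.twist 𝒜 (d : ℤ)) hWa (twF ha d) := by
  refine Subtype.ext (funext fun x => Subtype.ext ?_)
  refine Eq.trans ?_ (Twist.coe_smul_val (d : ℤ) x.1 _ _).symm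
  show (Localization.mk (b ^ ((d : ℤ)).toNat) _ : Twist.Loc 𝒜 x.1) =
    ((((sRatio hb ha).1 ⟨x.1, hWa x.2⟩ : Twist.A0 𝒜 x.1)) ^ d).val *
      Localization.mk (a ^ ((d : ℤ)).toNat) _
  rw [HomogeneousLocalization.val_pow]
  erw [sRatio_val hb ha ⟨x.1, hWa x.2⟩]
  rw [Localization.mk_pow, Localization.mk_mul, Localization.mk_eq_mk_iff, Localization.r_iff_exists]
  exact ⟨1, by simp [mul_comm]⟩

variable {X : Scheme.{u}} (p : X ⟶ Proj 𝒜)

/-- The inverse image of `O(d)`. -/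
abbrev pullTw (d : ℤ) : X.Modules := (Scheme.Modules.pullback p).obj (Twist.twist 𝒜 d)

/-- The inverse image of `t ^ d`. -/
def pFrame {t : A} (ht : t ∈ 𝒜 1) (d : ℤ) : Γ(pullTw p d, p ⁻¹ᵁ Proj.basicOpen 𝒜 t) :=
  InvX.pullElt p (twF ht d)

theorem isFrame_pFrame {t : A} (ht : t ∈ 𝒜 1) (d : ℤ) : InvX.IsFrame (pFrame p ht d) :=
  InvX.isFrame_pullElt p (isFrame_twF ht d)

theorem res_pFrame {a b : A} (ha : a ∈ 𝒜 1) (hb : b ∈ 𝒜 1) (d : ℕ) {W : X.Opens}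
    (hWa : W ≤ p ⁻¹ᵁ Proj.basicOpen 𝒜 a) (hWb : W ≤ p ⁻¹ᵁ Proj.basicOpen 𝒜 b) :
    res (pullTw p (d : ℤ)) hWb (pFrame p hb d) =
      ProjUPX.ratioOf p hb ha hWa ^ d • res (pullTw p (d : ℤ)) hWa (pFrame p ha d) := by
  let V : (Proj 𝒜).Opens := Proj.basicOpen 𝒜 a ⊓ Proj.basicOpen 𝒜 b
  let η : Twist.twist 𝒜 (d : ℤ) ⟶ (Scheme.Modules.pushforward p).obj (pullTw p (d : ℤ)) :=
    (Scheme.Modules.pullbackPushforwardAdjunction p).unit.app (Twist.twist 𝒜 (d : ℤ))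
  have h1 := congrArg (η.app V) (res_twF ha hb d (inf_le_left : V ≤ _) inf_le_right)
  rw [Scheme.Modules.Hom.app_smul, app_res, app_res] at h1
  have h2 : res (pullTw p (d : ℤ)) (p.preimage_mono (inf_le_right : V ≤ _)) (pFrame p hb d) =
      p.app V (resR inf_le_left (sRatio hb ha) ^ d) •
        res (pullTw p (d : ℤ)) (p.preimage_mono (inf_le_left : V ≤ _)) (pFrame p ha d) := h1
  have hW : W ≤ p ⁻¹ᵁ V := fun x hx => ⟨hWa hx, hWb hx⟩
  have h3 := congrArg (res (pullTw p (d : ℤ)) hW) h2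
  rw [res_smul, res_res, res_res, map_pow, map_pow] at h3
  refine h3.trans (congrArg (fun c => c ^ d • _) ?_)
  rw [ProjUPX.ratioOf, Scheme.Hom.app_eq_appLE]
  show ((Proj 𝒜).presheaf.map _ ≫ p.appLE V (p ⁻¹ᵁ V) le_rfl ≫ X.presheaf.map _).hom _ = _
  rw [Scheme.Hom.appLE_map, Scheme.Hom.map_appLE]
  rfl

end Groth.Agent.PnCoh.Chow
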