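import Groth.Agent.ProjUPX.Make
import Groth.Agent.ProjUPX.Iso
import Groth.Agent.PnCoh.Chow.PullFrame
import Groth.Agent.PnCoh.Chow.Proper
import Mathlib.AlgebraicGeometry.ZariskisMainTheorem
import Groth.Agent.SegreX.Coord

/-!
# The embedding of the part of the modification over an affine open into `P^N_B`
-/

universe u

open CategoryTheory CategoryTheory.Limits AlgebraicGeometry TopologicalSpace Opposite MvPolynomial
open HomogeneousLocalization

noncomputable section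

namespace Groth.Agent.PnCoh.Chow

open Groth.Agent.AModX

variable {N : ℕ} {A : Type u} [CommRing A]

theorem cov_coord (B : Type u) [CommRing B] (y : Proj (CohB1.polyGrading N B)) :
    ∃ i : ULift.{u} (Fin (N + 1)),
      y ∈ Proj.basicOpen (CohB1.polyGrading N B) (MvPolynomial.X i.down) := by
  have h := (Proj.iSup_basicOpen_eq_top (CohB1.polyGrading N B) _
    (SegreX.irrelevant_le_span N B)).ge (Set.mem_univ y)
  obtain ⟨i, hi⟩ := TopologicalSpace.Opens.mem_iSup.mp h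
  exact ⟨⟨i⟩, hi⟩

/-- The constants in the chart of `t`, on the chart. -/
theorem appLE_cst {T : Scheme.{u}} (s : T ⟶ Proj (CohB1.polyGrading N A)) (t : Fin (N + 1))
    {U : T.Opens} (hs : U ≤ s ⁻¹ᵁ Proj.basicOpen (CohB1.polyGrading N A) (MvPolynomial.X t)) (x : A) :
    resR (le_top : U ≤ ⊤) ((s ≫ CohB1.ProjSpace.toSpec N A).appTop
        ((Scheme.ΓSpecIso (CommRingCat.of A)).inv x)) =
      s.appLE (Proj.basicOpen (CohB1.polyGrading N A) (MvPolynomial.X t)) U hs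
        ((Proj.awayToSection (CohB1.polyGrading N A) (MvPolynomial.X t)).hom
          (fromZeroRingHom (CohB1.polyGrading N A) _ (algebraMap A (CohB1.polyGrading N A 0) x))) := by
  let 𝒜 := CohB1.polyGrading N A
  let V := Proj.basicOpen 𝒜 (MvPolynomial.X t)
  let w := Proj.toSpecZero 𝒜 ≫ Spec.map (CommRingCat.ofHom (algebraMap A (𝒜 0)))
  have ht := ProjPt.X_mem (n := N) (R := A) t
  have hw : resR (le_top : V ≤ ⊤) (w.appTop ((Scheme.ΓSpecIso (CommRingCat.of A)).inv x)) =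
      (Proj.awayToSection 𝒜 (MvPolynomial.X t)).hom (fromZeroRingHom 𝒜 _ (algebraMap A (𝒜 0) x)) := by
    have hc : Proj.awayι 𝒜 (MvPolynomial.X t) ht one_pos ≫ w = Spec.map (CommRingCat.ofHom
        ((fromZeroRingHom 𝒜 (Submonoid.powers (MvPolynomial.X t))).comp (algebraMap A (𝒜 0)))) := by
      simp only [w, Proj.awayι_toSpecZero_assoc, ← Spec.map_comp, ← CommRingCat.ofHom_comp]
    have e1 : (⊤ : (Spec (CommRingCat.of (Away 𝒜 (MvPolynomial.X t)))).Opens) ≤
        Proj.awayι 𝒜 (MvPolynomial.X t) ht one_pos ⁻¹ᵁ V := by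
      show _ ≤ _ ⁻¹ᵁ Proj.basicOpen 𝒜 (MvPolynomial.X t)
      rw [← Proj.opensRange_awayι 𝒜 (MvPolynomial.X t) ht one_pos, Scheme.Hom.preimage_opensRange]
    have hcomp := ProjPt.awayι_appLE 𝒜 ht one_pos e1
    have : IsIso (Proj.awayToSection 𝒜 (MvPolynomial.X t : MvPolynomial (Fin (N + 1)) A)) := by
      rw [← Proj.basicOpenIsoAway_hom 𝒜 (MvPolynomial.X t) ht one_pos]; infer_instance
    have : IsIso ((Proj.awayι 𝒜 (MvPolynomial.X t) ht one_pos).appLE V ⊤ e1) := by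
      have : IsIso (Proj.awayToSection 𝒜 (MvPolynomial.X t) ≫
          (Proj.awayι 𝒜 (MvPolynomial.X t) ht one_pos).appLE V ⊤ e1) := by rw [hcomp]; infer_instance
      exact IsIso.of_isIso_comp_left (Proj.awayToSection 𝒜 (MvPolynomial.X t)) _
    apply ((ConcreteCategory.isIso_iff_bijective _).1 this).1
    rw [← CommRingCat.comp_apply (Proj.awayToSection 𝒜 (MvPolynomial.X t)), ProjPt.awayι_appLE 𝒜 ht one_pos e1]
    refine (ConcreteCategory.congr_hom (Scheme.Hom.map_appLE _ e1 (homOfLE le_top).op) _).trans ?_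
    rw [← CommRingCat.comp_apply w.appTop, show (Proj.awayι 𝒜 (MvPolynomial.X t) ht one_pos).appLE ⊤ ⊤ le_top =
      (Proj.awayι 𝒜 (MvPolynomial.X t) ht one_pos).appTop from (Scheme.Hom.app_eq_appLE _ (U := ⊤)).symm,
      ← Scheme.Hom.comp_appTop, hc]
    exact (ConcreteCategory.congr_hom (Scheme.ΓSpecIso_inv_naturality (CommRingCat.ofHom
      ((fromZeroRingHom 𝒜 (Submonoid.powers (MvPolynomial.X t))).comp (algebraMap A (𝒜 0))))) x).symm
  rw [← hw, show (s ≫ CohB1.ProjSpace.toSpec N A).appTop = w.appTop ≫ s.appTop from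
    Scheme.Hom.comp_appTop s w]
  refine Eq.trans ?_ (ConcreteCategory.congr_hom (Scheme.Hom.map_appLE s hs (homOfLE le_top).op) _).symm
  rw [CommRingCat.comp_apply, Scheme.Hom.appTop, Scheme.Hom.app_eq_appLE]
  exact ConcreteCategory.congr_hom (Scheme.Hom.appLE_map s _ (homOfLE le_top).op) _

variable {Z : Scheme.{u}} (ψ : Z ⟶ Proj (CohB1.polyGrading N A)) {B : Type u} [CommRing B]
  (q : Z ⟶ Spec (CommRingCat.of B))

/-- The chart of the `l`-th coordinate. -/
abbrev chartA (l : Fin (N + 1)) : Z.Opens :=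
  ψ ⁻¹ᵁ Proj.basicOpen (CohB1.polyGrading N A) (MvPolynomial.X l)

/-- The ratio of two coordinates. -/
abbrev ratA (l a : Fin (N + 1)) {W : Z.Opens} (h : W ≤ chartA ψ a) : Γ(Z, W) :=
  ProjUPX.ratioOf ψ (ProjPt.X_mem l) (ProjPt.X_mem a) h

/-- Coordinates over the new base. -/
def relData : ProjUPX.CoordData (CohB1.polyGrading N B) Z
    ((Scheme.Modules.pullback ψ).obj (Twist.twist (CohB1.polyGrading N A) 1)) where
  κ := ULift.{u} (Fin (N + 1))
  T l := MvPolynomial.X l.down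
  hT l := ProjPt.X_mem l.down
  covT := cov_coord B
  s l := ProjUPX.pullG ψ (ProjPt.X_mem l.down)
  ι := ULift.{u} (Fin (N + 1))
  U a := chartA ψ a.down
  cov x := cov_coord A (ψ x)
  k a := a
  frame a := ProjUPX.isFrame_pullG ψ (ProjPt.X_mem a.down)
  f a := eval₂Hom ((resR (le_top : chartA ψ a.down ≤ ⊤)).comp (ProjUP.toGlobal q))
    fun l => ratA ψ l a.down le_rfl
  hs a l := by
    rw [eval₂Hom_X']
    exact ProjUPX.res_pullG ψ _ _ le_rfl
  hc a b W ha hb d x hx := by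
    let c0 : B →+* Γ(Z, W) := (resR (le_top : W ≤ ⊤)).comp (ProjUP.toGlobal q)
    have key : ∀ (e : ULift.{u} (Fin (N + 1))) (he : W ≤ chartA ψ e.down),
        resR he (eval₂Hom ((resR (le_top : chartA ψ e.down ≤ ⊤)).comp (ProjUP.toGlobal q))
          (fun l => ratA ψ l e.down le_rfl) x) = eval₂Hom c0 (fun l => ratA ψ l e.down he) x := by
      intro e he
      rw [map_eval₂Hom]
      refine eval₂Hom_congr ?_ ?_ rfl
      · ext r
        exact resR_resR _ _ _
      · funext l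
        exact ConcreteCategory.congr_hom (Scheme.Hom.appLE_map ψ _ (homOfLE he).op) _
    rw [key a ha, key b hb, eval₂Hom_X',
      show resR ha (ratA ψ b.down a.down le_rfl) = ratA ψ b.down a.down ha from
        ConcreteCategory.congr_hom (Scheme.Hom.appLE_map ψ _ (homOfLE ha).op) _]
    refine ProjPt.eval₂Hom_scale c0 _ _ _ (fun l => ?_) ((mem_homogeneousSubmodule _ _).1 hx)
    refine (ProjUPX.isFrame_pullG ψ (ProjPt.X_mem a.down)).coord_unique ha ?_
    rw [res_res, mul_comm, mul_smul, ← ProjUPX.res_pullG ψ _ _ ha, ← ProjUPX.res_pullG ψ _ _ ha,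
      ← ProjUPX.res_pullG ψ _ _ hb]

/-- The morphism to projective space over the new base. -/
def relMap : Z ⟶ Proj (CohB1.polyGrading N B) := (relData ψ q).map

theorem relMap_toSpec : relMap ψ q ≫ CohB1.ProjSpace.toSpec N B = q :=
  (relData ψ q).map_comp_eq q fun a x => eval₂Hom_C _ _ x

theorem relMap_ratio (l a : Fin (N + 1)) {W : Z.Opens} (h : W ≤ chartA ψ a)
    (h' : W ≤ relMap ψ q ⁻¹ᵁ Proj.basicOpen (CohB1.polyGrading N B) (MvPolynomial.X a)) :
    ProjUPX.ratioOf (relMap ψ q) (ProjPt.X_mem l) (ProjPt.X_mem a) h' = ratA ψ l a h := by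
  refine ((relData ψ q).ratio_eq ⟨a⟩ ⟨l⟩ h).trans ?_
  show resR h (eval₂Hom _ _ (MvPolynomial.X l)) = _
  rw [eval₂Hom_X']
  exact ConcreteCategory.congr_hom (Scheme.Hom.appLE_map ψ _ (homOfLE h).op) _

theorem relMap_preimage (l : Fin (N + 1)) :
    relMap ψ q ⁻¹ᵁ Proj.basicOpen (CohB1.polyGrading N B) (MvPolynomial.X l) = chartA ψ l := by
  refine le_antisymm (fun x hx => ?_) ((relData ψ q).le_preimage ⟨l⟩)
  obtain ⟨⟨a⟩, ha⟩ := cov_coord A (ψ x)
  let W : Z.Opens := relMap ψ q ⁻¹ᵁ Proj.basicOpen (CohB1.polyGrading N B) (MvPolynomial.X l) ⊓ chartA ψ a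
  have h := (relData ψ q).ratio_mul ⟨a⟩ ⟨l⟩ ⟨a⟩ (W := W) inf_le_right inf_le_left
  rw [show (relData ψ q).f ⟨a⟩ ((relData ψ q).T ⟨a⟩) = 1 from
    (relData ψ q).f_self ⟨a⟩, map_one] at h
  have hu : IsUnit (ratA ψ l a (W := W) inf_le_right) := by
    refine IsUnit.of_mul_eq_one ((relData ψ q).ratio ⟨l⟩ ⟨a⟩ (W := W) inf_le_left) ?_
    rw [mul_comm]
    refine Eq.trans (congrArg (_ * ·) ?_) h.symm
    show _ = resR inf_le_right (eval₂Hom _ _ (MvPolynomial.X l))
    rw [eval₂Hom_X']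
    exact (ConcreteCategory.congr_hom (Scheme.Hom.appLE_map ψ _ (homOfLE inf_le_right).op) _).symm
  exact ProjUPX.le_preimage_of_isUnit ψ (ProjPt.X_mem l) (ProjPt.X_mem a) inf_le_right hu ⟨hx, ha⟩

theorem mono_relMap [Mono ψ] (c : A →+* B)
    (hc : ψ ≫ CohB1.ProjSpace.toSpec N A = q ≫ Spec.map (CommRingCat.ofHom c)) :
    Mono (relMap ψ q) := ⟨fun {T} a b hab => by
  rw [← cancel_mono ψ]
  let V : ULift.{u} (Fin (N + 1)) → T.Opens := fun l => a ⁻¹ᵁ chartA ψ l.down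
  refine Scheme.Cover.hom_ext (T.openCoverOfIsOpenCover V (IsOpenCover.mk (eq_top_iff.2 fun t _ =>
    Opens.mem_iSup.2 (cov_coord A (ψ (a t)))))) _ _ fun l => ?_
  show (V l).ι ≫ a ≫ ψ = (V l).ι ≫ b ≫ ψ
  have ha : V l ≤ (a ≫ ψ) ⁻¹ᵁ Proj.basicOpen (CohB1.polyGrading N A) (MvPolynomial.X l.down) := le_rfl
  have ha' : V l ≤ a ⁻¹ᵁ chartA ψ l.down := le_rfl
  have hb' : V l ≤ b ⁻¹ᵁ chartA ψ l.down := by
    show a ⁻¹ᵁ chartA ψ l.down ≤ _
    rw [← relMap_preimage ψ q l.down]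
    exact le_of_eq (congrArg (fun φ : T ⟶ _ =>
      φ ⁻¹ᵁ Proj.basicOpen (CohB1.polyGrading N B) (MvPolynomial.X l.down)) hab)
  refine ProjUPX.ι_eq_of_appLE (ProjPt.X_mem l.down) (a ≫ ψ) (b ≫ ψ) ha hb' ?_
  ext z
  obtain ⟨m, x, hx, rfl⟩ := Away.mk_surjective (CohB1.polyGrading N A) (ProjPt.X_mem l.down) z
  rw [ProjPt.mk_eq_eval, map_eval₂Hom, map_eval₂Hom]
  refine eval₂Hom_congr ?_ ?_ rfl
  · ext r
    refine (appLE_cst (a ≫ ψ) l.down ha r).symm.trans (Eq.trans ?_ (appLE_cst (b ≫ ψ) l.down hb' r))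
    rw [Category.assoc, Category.assoc, hc, ← Category.assoc, ← Category.assoc, ← relMap_toSpec ψ q,
      reassoc_of% hab]
  · funext k
    have hj : chartA ψ l.down ≤
        relMap ψ q ⁻¹ᵁ Proj.basicOpen (CohB1.polyGrading N B) (MvPolynomial.X l.down) :=
      (relMap_preimage ψ q l.down).ge
    have key : ∀ (g : T ⟶ Z) (hg : V l ≤ g ⁻¹ᵁ chartA ψ l.down),
        (g ≫ ψ).appLE (Proj.basicOpen (CohB1.polyGrading N A) (MvPolynomial.X l.down)) (V l) hg
          (sRatio (ProjPt.X_mem (n := N) (R := A) k) (ProjPt.X_mem l.down)) =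
        (g ≫ relMap ψ q).appLE (Proj.basicOpen (CohB1.polyGrading N B) (MvPolynomial.X l.down))
          (V l) (hg.trans (g.preimage_mono hj))
          (sRatio (ProjPt.X_mem (n := N) (R := B) k) (ProjPt.X_mem l.down)) := by
      intro g hg
      rw [← Scheme.Hom.appLE_comp_appLE g ψ _ (chartA ψ l.down) (V l) le_rfl hg,
        ← Scheme.Hom.appLE_comp_appLE g (relMap ψ q) _ (chartA ψ l.down) (V l) hj hg,
        CommRingCat.comp_apply, CommRingCat.comp_apply]
      exact congrArg _ (relMap_ratio ψ q k l.down le_rfl hj).symm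
    refine (key a ha').trans (Eq.trans ?_ (key b hb').symm)
    simp only [hab]⟩

theorem isClosedImmersion_relMap [Mono ψ] [IsProper q] (c : A →+* B)
    (hc : ψ ≫ CohB1.ProjSpace.toSpec N A = q ≫ Spec.map (CommRingCat.ofHom c)) :
    IsClosedImmersion (relMap ψ q) := by
  haveI := isProper_toSpec N B
  haveI : IsProper (relMap ψ q ≫ CohB1.ProjSpace.toSpec N B) := by
    rw [relMap_toSpec]; infer_instance
  exact (IsClosedImmersion.iff_isProper_and_mono _).2
    ⟨IsProper.of_comp _ (CohB1.ProjSpace.toSpec N B), mono_relMap ψ q c hc⟩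

end Groth.Agent.PnCoh.Chow
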