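import Groth.Agent.PnCoh.Chow.Pairing
import Groth.Agent.PnCoh.Chow.RelEmb
import Groth.Agent.PnCoh.Finite.Closed
import Groth.Agent.PnCoh.Finite.SerreVanishing
import Groth.Agent.PnCoh.Chow.Data
import Groth.Agent.QCoh.DevissageP
import Groth.Agent.QCoh.CechLoc
import Groth.Agent.QCoh.GodHH
import Groth.Agent.QCoh.Ab.Restrict

/-!
# Relative vanishing and finiteness for the modification
-/

universe u

set_option backward.isDefEq.respectTransparency false
set_option backward.isDefEq.respectTransparency.types false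
set_option linter.style.haveILetI false

open CategoryTheory CategoryTheory.Limits AlgebraicGeometry TopologicalSpace Opposite MvPolynomial

noncomputable section

namespace Groth.Agent.PnCoh.Chow

open Groth.Agent.AModX

theorem subsingleton_HU_top {T : TopCat.{u}} (F : CohTop.Ab T) (n : ℕ) (h : Subsingleton (CohTop.H F n)) :
    Subsingleton (CohTop.HU F n (⊤ : Opens T)) :=
  (SiteBase.huTerminalEquiv isTerminalTop F n).toEquiv.subsingleton

theorem subsingleton_HU_of_HHon {Y : Scheme.{u}} (M : Y.Modules) (U : Y.Opens) (q : ℕ)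
    (h : Subsingleton (Coh.HHon Y M U (q + 1))) :
    Subsingleton (CohTop.HU (X := Y.toPresheafedSpace.carrier) (QCoh.abSheaf M) (q + 1) U) := by
  have h1 := (QCoh.Ab.subsingleton_HU_restr_iff (U.ι.isOpenEmbedding) q
    (QCoh.abSheaf M) ⊤).1 (subsingleton_HU_top _ _ h)
  have e : (U.ι.isOpenEmbedding.isOpenMap.functor.obj ⊤ : Y.Opens) = U :=
    Opens.ext (Set.image_univ.trans U.range_ι)
  rw [← e]
  exact h1

theorem subsingleton_HH_of_iso {Y : Scheme.{u}} {M M' : Y.Modules} (φ : M ≅ M') (n : ℕ)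
    (h : Subsingleton (Coh.HH Y M n)) : Subsingleton (Coh.HH Y M' n) := by
  refine subsingleton_of_forall_eq 0 fun x => ?_
  have h1 := Finite.map_map (Y := Y.toPresheafedSpace.carrier)
    ((QCoh.toAbFunctor Y).map_comp φ.inv φ.hom).symm n x
  rw [φ.inv_hom_id, CategoryTheory.Functor.map_id, Sheaf.H.map_id_apply] at h1
  exact h1.symm.trans ((congrArg (Sheaf.H.map ((QCoh.toAbFunctor Y).map φ.hom) n)
    (h.elim (Sheaf.H.map ((QCoh.toAbFunctor Y).map φ.inv) n x) 0)).trans (map_zero _))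

theorem restrict_smul {Y : Scheme.{u}} (U : Y.Opens) (M : Y.Modules) (W : U.toScheme.Opens)
    (r : Γ(U.toScheme, W)) (x : Γ(M.restrict U.ι, W)) :
    (show Γ(M, U.ι ''ᵁ W) from r • x) =
      (show Γ(Y, U.ι ''ᵁ W) from r) • (show Γ(M, U.ι ''ᵁ W) from x) := by
  show (U.ι.appIso W).inv r • (show Γ(M, U.ι ''ᵁ W) from x) = _
  rw [Scheme.Opens.ι_appIso]
  rfl

theorem finite_of_frame {Y : Scheme.{u}} {M : Y.Modules} {U : Y.Opens} {e : Γ(M, U)}
    (he : InvX.IsFrame e) : Module.Finite Γ(Y, U) Γ(M, U) := by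
  refine Module.Finite.of_surjective (LinearMap.toSpanSingleton Γ(Y, U) Γ(M, U) e) fun x => ?_
  obtain ⟨r, hr⟩ := he.exists_coord le_rfl x
  exact ⟨r, by rw [LinearMap.toSpanSingleton_apply, hr, res_self]⟩

variable {N : ℕ} {A : Type u} [CommRing A] {X X' : Scheme.{u}} (f : X ⟶ Spec (CommRingCat.of A))
  (π : X' ⟶ X) (p : X' ⟶ Proj (CohB1.polyGrading N A)) {V : X.Opens} (hV : IsAffineOpen V)

/-- The part over `V` mapped to the spectrum of its ring. -/
abbrev relQ : (π ⁻¹ᵁ V).toScheme ⟶ Spec (CommRingCat.of Γ(X, V)) :=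
  (π ∣_ V) ≫ hV.isoSpec.hom

/-- The part over `V` mapped to projective space. -/
abbrev relPsi : (π ⁻¹ᵁ V).toScheme ⟶ Proj (CohB1.polyGrading N A) := (π ⁻¹ᵁ V).ι ≫ p

/-- The embedding of the part over `V`. -/
abbrev relJ : (π ⁻¹ᵁ V).toScheme ⟶ Proj (CohB1.polyGrading N Γ(X, V)) :=
  relMap (relPsi π p) (relQ π hV)

theorem relPsi_toSpec (hp : p ≫ CohB1.ProjSpace.toSpec N A = π ≫ f) :
    relPsi π p ≫ CohB1.ProjSpace.toSpec N A = relQ π hV ≫ Spec.map (CommRingCat.ofHom (aHom f V)) := by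
  have h1 : hV.fromSpec ≫ f = Spec.map (CommRingCat.ofHom (aHom f V)) := by
    rw [← IsAffineOpen.SpecMap_appLE_fromSpec f (isAffineOpen_top _) hV le_top, IsAffineOpen.fromSpec_top,
      Scheme.isoSpec_Spec_inv, ← Spec.map_comp]
    rfl
  rw [Category.assoc, hp, ← h1, Category.assoc, hV.isoSpec_hom_fromSpec_assoc,
    morphismRestrict_ι_assoc]

theorem toGlobal_relQ (b : Γ(X, V)) :
    (show Γ(X', (π ⁻¹ᵁ V).ι ''ᵁ ⊤) from Coh.toGlobal (relQ π hV) b) =
      resR ((π ⁻¹ᵁ V).ι_image_le ⊤) (π.app V b) := by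
  show ((Scheme.ΓSpecIso Γ(X, V)).inv ≫ (relQ π hV).appTop) b = _
  rw [Scheme.Hom.comp_appTop, IsAffineOpen.isoSpec_hom_appTop, Category.assoc,
    Iso.inv_hom_id_assoc, morphismRestrict_appTop, Scheme.Opens.topIso_inv]
  refine (ConcreteCategory.congr_hom (π.naturality_assoc (eqToHom V.ι_image_top).op _) b).trans ?_
  rw [CommRingCat.comp_apply]
  exact QCoh.ringMap_map _ _ (π.app V b)

theorem image_basicOpen_relQ (b : Γ(X, V)) :
    (π ⁻¹ᵁ V).ι ''ᵁ (π ⁻¹ᵁ V).toScheme.basicOpen (Coh.toGlobal (relQ π hV) b) =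
      π ⁻¹ᵁ X.basicOpen b := by
  rw [Scheme.image_basicOpen, Scheme.preimage_basicOpen]
  rw [Scheme.Opens.ι_appIso]
  refine (congrArg X'.basicOpen (toGlobal_relQ π hV b)).trans ?_
  rw [show resR ((π ⁻¹ᵁ V).ι_image_le ⊤) (π.app V b) = X'.presheaf.map (homOfLE _).op (π.app V b) from rfl,
    Scheme.basicOpen_res]
  exact inf_eq_right.2 ((X'.basicOpen_le _).trans (π ⁻¹ᵁ V).ι_image_top.ge)

variable (V) in
/-- The twisting module over `V`. -/
abbrev relM (d : ℕ) : (π ⁻¹ᵁ V).toScheme.Modules := (pullTw p (d : ℤ)).restrict (π ⁻¹ᵁ V).ι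

/-- The coordinates over `Γ(X, V)`. -/
abbrev relG (l : ULift.{u} (Fin (N + 1))) : MvPolynomial (Fin (N + 1)) Γ(X, V) := MvPolynomial.X l.down

theorem relG_mem (l : ULift.{u} (Fin (N + 1))) :
    relG (N := N) (V := V) l ∈ CohB1.polyGrading N Γ(X, V) 1 := ProjPt.X_mem l.down

theorem iSup_relG : ⨆ l, Proj.basicOpen (CohB1.polyGrading N Γ(X, V)) (relG l) = ⊤ :=
  top_le_iff.1 fun y _ => Opens.mem_iSup.2 (cov_coord _ y)

theorem image_relJ_le (l : Fin (N + 1)) :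
    (π ⁻¹ᵁ V).ι ''ᵁ (relJ π p hV ⁻¹ᵁ Proj.basicOpen (CohB1.polyGrading N Γ(X, V)) (MvPolynomial.X l)) ≤
      p ⁻¹ᵁ Proj.basicOpen (CohB1.polyGrading N A) (MvPolynomial.X l) := by
  rw [relMap_preimage]
  exact (π ⁻¹ᵁ V).ι.image_preimage_le (p ⁻¹ᵁ Proj.basicOpen (CohB1.polyGrading N A) (MvPolynomial.X l))

/-- The frame on a chart. -/
def relN (d : ℕ) (l : ULift.{u} (Fin (N + 1))) :
    Γ(relM π p V d, relJ π p hV ⁻¹ᵁ Proj.basicOpen (CohB1.polyGrading N Γ(X, V)) (relG l)) :=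
  res (pullTw p (d : ℤ)) (image_relJ_le π p hV l.down) (pFrame p (ProjPt.X_mem l.down) (d : ℤ))

theorem isFrame_relN (d : ℕ) (l : ULift.{u} (Fin (N + 1))) : InvX.IsFrame (relN π p hV d l) := by
  intro W hW
  rw [show (fun r : Γ((π ⁻¹ᵁ V).toScheme, W) => r • res (relM π p V d) hW (relN π p hV d l)) =
      fun r => (show Γ(X', (π ⁻¹ᵁ V).ι ''ᵁ W) from r) •
        (show Γ(pullTw p (d : ℤ), (π ⁻¹ᵁ V).ι ''ᵁ W) from res (relM π p V d) hW (relN π p hV d l))
    from funext fun r => restrict_smul (π ⁻¹ᵁ V) (pullTw p (d : ℤ)) W r _]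
  exact ((isFrame_pFrame p (ProjPt.X_mem l.down) (d : ℤ)).res (image_relJ_le π p hV l.down))
    ((π ⁻¹ᵁ V).ι ''ᵁ W) ((π ⁻¹ᵁ V).ι.image_mono hW)

/-- The frames on the charts. -/
def relFrames (d : ℕ) :
    Frames (relG (N := N) (V := V)) relG_mem (relJ π p hV) (relM π p V d) d where
  n := relN π p hV d
  frame := isFrame_relN π p hV d
  change a b W ha hb := by
    have ha' : W ≤ chartA (relPsi π p) a.down := ha.trans (relMap_preimage _ _ a.down).le
    rw [relMap_ratio (relPsi π p) (relQ π hV) b.down a.down ha' ha]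
    have hWa : (π ⁻¹ᵁ V).ι ''ᵁ W ≤ p ⁻¹ᵁ Proj.basicOpen (CohB1.polyGrading N A) (MvPolynomial.X a.down) :=
      ((π ⁻¹ᵁ V).ι.image_mono ha).trans (image_relJ_le π p hV a.down)
    have hWb : (π ⁻¹ᵁ V).ι ''ᵁ W ≤ p ⁻¹ᵁ Proj.basicOpen (CohB1.polyGrading N A) (MvPolynomial.X b.down) :=
      ((π ⁻¹ᵁ V).ι.image_mono hb).trans (image_relJ_le π p hV b.down)
    have key : ratA (relPsi π p) b.down a.down ha' =
        (show Γ((π ⁻¹ᵁ V).toScheme, W) from
          ProjUPX.ratioOf p (ProjPt.X_mem b.down) (ProjPt.X_mem a.down) hWa) := by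
      rw [ratA, ProjUPX.ratioOf, ProjUPX.ratioOf,
        ← Scheme.Hom.appLE_comp_appLE (π ⁻¹ᵁ V).ι p _ ((π ⁻¹ᵁ V).ι ''ᵁ W) W hWa
          ((π ⁻¹ᵁ V).ι.preimage_image_eq W).ge, CommRingCat.comp_apply, Scheme.Opens.ι_appLE]
      exact QCoh.ringMap_id _ _
    rw [key]
    refine Eq.trans ?_ (restrict_smul (π ⁻¹ᵁ V) (pullTw p (d : ℤ)) W _ _).symm
    refine ((AModX.res_res (M := pullTw p (d : ℤ)) _ ((π ⁻¹ᵁ V).ι.image_mono hb) _).trans
      (res_pFrame p (ProjPt.X_mem a.down) (ProjPt.X_mem b.down) d hWa hWb)).trans ?_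
    exact congrArg (ProjUPX.ratioOf p (ProjPt.X_mem b.down) (ProjPt.X_mem a.down) hWa ^ d • ·)
      (AModX.res_res (M := pullTw p (d : ℤ)) _ ((π ⁻¹ᵁ V).ι.image_mono ha) _).symm

variable [IsNoetherianRing A]

omit [IsNoetherianRing A] in
theorem isQCoh_pullTw (d : ℤ) : Coh.IsQCoh (pullTw p d) :=
  QCoh.isQCoh_pullback p (isQCoh_twist (fun l : ULift.{u} (Fin (N + 1)) => MvPolynomial.X l.down)
    (fun l => ProjPt.X_mem l.down) (top_le_iff.1 fun y _ => Opens.mem_iSup.2 (cov_coord A y)) d)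

omit [IsNoetherianRing A] in
theorem isCoh_pullTw [IsAffineHom p] (d : ℤ) : Coh.IsCoh (pullTw p d) :=
  ⟨isQCoh_pullTw p d, QCoh.isFT_of_finite (isQCoh_pullTw p d)
    (fun l : ULift.{u} (Fin (N + 1)) =>
      p ⁻¹ᵁ Proj.basicOpen (CohB1.polyGrading N A) (MvPolynomial.X l.down))
    (IsOpenCover.mk (top_le_iff.1 fun x _ => Opens.mem_iSup.2 (cov_coord A (p x))))
    (fun l => (Proj.isAffineOpen_basicOpen _ _ (ProjPt.X_mem l.down) one_pos).preimage p)
    (fun l => finite_of_frame (isFrame_pFrame p (ProjPt.X_mem l.down) d))⟩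

theorem isQCoh_relM (d : ℕ) : Coh.IsQCoh (relM π p V d) :=
  QCoh.isQCoh_restrict _ (isQCoh_pullTw p d)

variable [IsClosedImmersion p] [IsProper π] (hp : p ≫ CohB1.ProjSpace.toSpec N A = π ≫ f)

include hp in
theorem isClosedImmersion_relJ : IsClosedImmersion (relJ π p hV) := by
  haveI : IsProper (π ∣_ V) := IsZariskiLocalAtTarget.restrict (P := @IsProper) inferInstance V
  haveI : IsProper (relQ π hV) := MorphismProperty.comp_mem @IsProper _ _ inferInstance inferInstance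
  haveI : Mono (relPsi (V := V) π p) := mono_comp _ _
  exact isClosedImmersion_relMap _ _ (aHom f V) (relPsi_toSpec f π p hV hp)

include hp hV in
theorem isCoh_relM (d : ℕ) : Coh.IsCoh (relM π p V d) := by
  haveI := isClosedImmersion_relJ f π p hV hp
  exact ⟨isQCoh_relM π p d, QCoh.isFT_of_finite (isQCoh_relM π p d)
    (fun l => relJ π p hV ⁻¹ᵁ Proj.basicOpen (CohB1.polyGrading N Γ(X, V)) (relG l))
    (IsOpenCover.mk (top_le_iff.1 fun z _ => Opens.mem_iSup.2 (cov_coord _ (relJ π p hV z))))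
    (fun l => (Proj.isAffineOpen_basicOpen _ _ (relG_mem l) one_pos).preimage (relJ π p hV))
    (fun l => finite_of_frame (isFrame_relN π p hV d l))⟩

include f hp hV in
theorem exists_rel_vanishing [IsNoetherianRing Γ(X, V)] :
    ∃ d₀ : ℕ, ∀ d, d₀ ≤ d → ∀ q, Subsingleton (Coh.HH (π ⁻¹ᵁ V).toScheme (relM π p V d) (q + 1)) := by
  classical
  haveI := isClosedImmersion_relJ f π p hV hp
  haveI hP : IsNoetherian (Proj (CohB1.polyGrading N Γ(X, V))) := Proj16.isNoetherian_proj _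
  haveI : IsLocallyNoetherian (π ⁻¹ᵁ V).toScheme :=
    LocallyOfFiniteType.isLocallyNoetherian (relJ π p hV)
  have hf := relG_mem (N := N) (V := V)
  have hcov : ⨆ l, Finite.D (CohB1.polyGrading N Γ(X, V)) (relG l) = ⊤ := iSup_relG
  have hnoeth : ∀ l, IsNoetherianRing
      Γ(Proj (CohB1.polyGrading N Γ(X, V)), Finite.D _ (relG (N := N) (V := V) l)) := fun l =>
    IsLocallyNoetherian.component_noetherian ⟨_, Finite.isAffineOpen_D hf l⟩
  have hvan : ∀ M : (Proj (CohB1.polyGrading N Γ(X, V))).Modules, Coh.IsQCoh M → ∀ i, N + 1 ≤ i →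
      Subsingleton (Coh.HH (Proj (CohB1.polyGrading N Γ(X, V))) M i) := fun M hM i hi => by
    haveI := hM
    exact QCoh.HH_subsingleton_of_cover (N + 1)
      (fun l => Proj.basicOpen (CohB1.polyGrading N Γ(X, V)) (relG ⟨l⟩))
      (fun l => Finite.isAffineOpen_D hf _)
      (top_le_iff.1 (hcov.ge.trans (iSup_le fun l => le_iSup_of_le l.down le_rfl)))
      (fun _ _ hV hW => IsAffineOpen.inf hV hW) hM i hi
  have htw : ∀ i, 0 < i → ∃ d₀ : ℤ, ∀ d, d₀ ≤ d → Subsingleton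
      (Coh.HH (Proj (CohB1.polyGrading N Γ(X, V))) (Twist.twist (CohB1.polyGrading N Γ(X, V)) d) i) :=
    fun i hi => ⟨0, fun d hd => S0844.result Γ(X, V) N d i (by omega) (by omega)⟩
  have hgood : Finite.Good relG (pushO (relJ π p hV)) :=
    Finite.good_of_isCoh hf (S0019.result (relJ π p hV) _ QCoh.isCoh_structureModule')
  have hex : ∀ i : Fin (N + 1), ∃ d₀ : ℤ, ∀ d, d₀ ≤ d → Subsingleton (Coh.HH _
      (Twist.twistBy (CohB1.polyGrading N Γ(X, V)) (pushO (relJ π p hV)) d) (i.1 + 1)) := fun i =>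
    Finite.exists_vanishing hf hcov hnoeth (N + 1) hvan htw _ hgood _ (Nat.succ_pos _)
  choose d₁ hd₁ using hex
  refine ⟨Finset.univ.sup fun i => (d₁ i).toNat, fun d hd q => ?_⟩
  letI : (π ⁻¹ᵁ V).toScheme.Over (Spec (CommRingCat.of Γ(X, V))) := ⟨relQ π hV⟩
  letI : (Proj (CohB1.polyGrading N Γ(X, V))).Over (Spec (CommRingCat.of Γ(X, V))) :=
    inferInstanceAs ((CohB1.ProjSpace N Γ(X, V)).Over (Spec (CommRingCat.of Γ(X, V))))
  obtain ⟨e⟩ := exists_linearEquiv_push Γ(X, V) (relJ π p hV)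
    (relMap_toSpec (relPsi π p) (relQ π hV)) (isQCoh_relM π p d) (q + 1)
  suffices Subsingleton (Coh.HH _ ((Coh.push (relJ π p hV)).obj (relM π p V d)) (q + 1)) from
    e.toEquiv.subsingleton
  by_cases hq : N + 1 ≤ q + 1
  · exact hvan _ (QCoh.isQCoh_pushforward _ (isQCoh_relM π p d)) _ hq
  · obtain ⟨φ⟩ := nonempty_twistBy_pushO_iso iSup_relG (relFrames π p hV d)
    have h1 : (d₁ ⟨q, by omega⟩).toNat ≤ d :=
      le_trans (Finset.le_sup (f := fun i => (d₁ i).toNat) (Finset.mem_univ (⟨q, by omega⟩ : Fin (N + 1)))) hd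
    haveI h2 := hd₁ ⟨q, by omega⟩ (d : ℤ) (by omega)
    exact subsingleton_HH_of_iso φ (q + 1) h2

include f hp hV in
theorem subsingleton_HU_preimage_basicOpen [X.IsSeparated] (d : ℕ) (b : Γ(X, V)) (q : ℕ)
    (h : Subsingleton (Coh.HH (π ⁻¹ᵁ V).toScheme (relM π p V d) (q + 1))) :
    Subsingleton (CohTop.HU (X := X'.toPresheafedSpace.carrier) (QCoh.abSheaf (pullTw p (d : ℤ))) (q + 1)
      (π ⁻¹ᵁ X.basicOpen b)) := by
  haveI : X'.IsSeparated := ⟨by
    rw [← terminal.comp_from π]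
    exact MorphismProperty.comp_mem @IsSeparated _ _ inferInstance Scheme.IsSeparated.isSeparated_terminal_from⟩
  haveI : CompactSpace (π ⁻¹ᵁ V).toScheme :=
    isCompact_iff_compactSpace.1 (π.isCompact_preimage (hU := hV.isCompact))
  haveI : (π ⁻¹ᵁ V).toScheme.IsSeparated := ⟨by
    rw [← terminal.comp_from (π ⁻¹ᵁ V).ι]
    exact MorphismProperty.comp_mem @IsSeparated _ _ inferInstance Scheme.IsSeparated.isSeparated_terminal_from⟩
  letI := QCoh.modHH (QCoh.idTop (π ⁻¹ᵁ V).toScheme) (relM π p V d) (q + 1)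
  obtain ⟨e⟩ := QCoh.HH_localization (Coh.toGlobal (relQ π hV) b) (isQCoh_relM π p d) (q + 1)
  have h1 := subsingleton_HU_of_HHon (relM π p V d) _ q (by
    haveI := h
    exact e.toEquiv.subsingleton)
  have h2 := (QCoh.Ab.subsingleton_HU_restr_iff (π ⁻¹ᵁ V).ι.isOpenEmbedding q
    (QCoh.abSheaf (pullTw p (d : ℤ))) _).1 h1
  rw [← image_basicOpen_relQ π hV b]
  exact h2

include f hp hV in
theorem finite_sections_push [IsNoetherianRing Γ(X, V)] (d : ℕ) :
    Module.Finite Γ(X, V) Γ((Coh.push π).obj (pullTw p (d : ℤ)), V) := by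
  haveI := isClosedImmersion_relJ f π p hV hp
  letI : (π ⁻¹ᵁ V).toScheme.Over (Spec (CommRingCat.of Γ(X, V))) := ⟨relQ π hV⟩
  haveI := Finite.closedImm_finite_HH N Γ(X, V) (relJ π p hV)
    (relMap_toSpec (relPsi π p) (relQ π hV)) (relM π p V d) (isCoh_relM f π p hV hp d) 0
  let ρ := Coh.toGlobal (relQ π hV)
  letI := QCoh.secModule ρ (relM π p V d) ⊤
  haveI : Module.Finite Γ(X, V) Γ(relM π p V d, ⊤) := Module.Finite.equiv (QCoh.secH ρ (relM π p V d)).symm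
  let G := pullTw p (d : ℤ)
  let L : Γ(relM π p V d, ⊤) →ₗ[Γ(X, V)] Γ((Coh.push π).obj G, V) :=
    { toFun := fun m => res G (π ⁻¹ᵁ V).ι_image_top.ge (show Γ(G, (π ⁻¹ᵁ V).ι ''ᵁ ⊤) from m)
      map_add' := map_add (res G (π ⁻¹ᵁ V).ι_image_top.ge)
      map_smul' := fun b m => by
        refine (congrArg (res G (π ⁻¹ᵁ V).ι_image_top.ge) (restrict_smul (π ⁻¹ᵁ V) G ⊤
          ((π ⁻¹ᵁ V).toScheme.presheaf.map (homOfLE (le_top : (⊤ : (π ⁻¹ᵁ V).toScheme.Opens) ≤ ⊤)).op (ρ b))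
          m)).trans ?_
        rw [res_smul]
        show _ = π.app V b •
          res G (π ⁻¹ᵁ V).ι_image_top.ge (show Γ(G, (π ⁻¹ᵁ V).ι ''ᵁ ⊤) from m)
        refine congrArg (· • _) ?_
        rw [show (π ⁻¹ᵁ V).toScheme.presheaf.map (homOfLE (le_top : (⊤ : (π ⁻¹ᵁ V).toScheme.Opens) ≤ ⊤)).op (ρ b) = ρ b
          from QCoh.ringMap_id _ _, toGlobal_relQ, resR_resR, resR_self] }
  refine Module.Finite.of_surjective L fun y => ⟨res G ((π ⁻¹ᵁ V).ι_image_le ⊤) y, ?_⟩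
  show res G _ (res G _ (show Γ(G, π ⁻¹ᵁ V) from y)) = _
  rw [res_res, res_self]

end Groth.Agent.PnCoh.Chow
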