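import Groth.Agent.ProjPt.Sections
import Groth.Agent.ProjPt.Poly
import Mathlib.AlgebraicGeometry.Morphisms.UnderlyingMap
import Mathlib.AlgebraicGeometry.Properties

/-!
# Auxiliary lemmas for Chow's lemma
-/

universe u

open CategoryTheory AlgebraicGeometry TopologicalSpace Opposite HomogeneousLocalization

namespace Groth.Agent.PnCoh.Chow

/-- The comorphism of a dominant map to a reduced scheme is injective. -/
theorem app_injective_of_isDominant {W Z : Scheme.{u}} (γ : W ⟶ Z) [IsDominant γ] [IsReduced Z]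
    (O : Z.Opens) : Function.Injective (γ.app O) := by
  refine (injective_iff_map_eq_zero _).2 fun s hs => eq_zero_of_basicOpen_eq_bot s ?_
  by_contra hne
  obtain ⟨z, hz⟩ : (Z.basicOpen s : Set Z).Nonempty := by
    rw [Set.nonempty_iff_ne_empty]
    exact fun h => hne (Opens.ext h)
  obtain ⟨w, hw⟩ := γ.denseRange.exists_mem_open (Z.basicOpen s).2 ⟨z, hz⟩
  have : w ∈ γ ⁻¹ᵁ Z.basicOpen s := hw
  rw [Scheme.preimage_basicOpen, hs, Scheme.basicOpen_zero] at this
  exact this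

/-- Sections pulled back to a smaller open are compared after composition. -/
theorem appLE_congr_hom {W Z : Scheme.{u}} {f g : W ⟶ Z} (h : f = g) (O : Z.Opens) (V : W.Opens)
    (e : V ≤ f ⁻¹ᵁ O) : f.appLE O V e = g.appLE O V (h ▸ e) := by
  subst h; rfl

theorem map_injective_of_eq {Z : Scheme.{u}} {O O' : Z.Opens} (h : O = O') (i : O' ⟶ O) :
    Function.Injective (Z.presheaf.map i.op) := by
  subst h
  rw [Subsingleton.elim i (𝟙 O), op_id, CategoryTheory.Functor.map_id]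
  exact Function.injective_id

/-- A morphism into an affine open is given by its comorphism. -/
theorem eq_toSpecΓ_fromSpec {W Z : Scheme.{u}} {U : Z.Opens} (hU : IsAffineOpen U) (g : W ⟶ Z)
    (O : W.Opens) (e : O ≤ g ⁻¹ᵁ U) :
    O.ι ≫ g = O.toSpecΓ ≫ Spec.map (g.appLE U O e) ≫ hU.fromSpec := by
  rw [Scheme.Opens.toSpecΓ_SpecMap_appLE_assoc, hU.toSpecΓ_fromSpec, Scheme.Hom.resLE_comp_ι]

variable {A σ : Type u} [CommRing A] [SetLike σ A] [AddSubgroupClass σ A]
variable (𝒜 : ℕ → σ) [GradedRing 𝒜]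

/-- The ratio `a / t` pulled back by a point with coordinates. -/
theorem pt_ratio_mul {W : Scheme.{u}} (c : A →+* Γ(W, ⊤)) {t₀ t a : A} (ht₀ : t₀ ∈ 𝒜 1)
    (ht : t ∈ 𝒜 1) (ha : a ∈ 𝒜 1) (hu : IsUnit (c t₀)) (O : W.Opens)
    (hO : O ≤ ProjPt.pt 𝒜 c ht₀ one_pos hu ⁻¹ᵁ Proj.basicOpen 𝒜 t) :
    (ProjPt.pt 𝒜 c ht₀ one_pos hu).appLE (Proj.basicOpen 𝒜 t) O hO
        ((Proj.awayToSection 𝒜 t).hom (Away.mk 𝒜 ht 1 a (by rwa [one_smul]))) *
      W.presheaf.map (homOfLE (le_top : O ≤ ⊤)).op (c t) =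
      W.presheaf.map (homOfLE (le_top : O ≤ ⊤)).op (c a) := by
  have hinj : Function.Injective (O.ι.appLE O ⊤ (by simp)) := by
    rw [Scheme.Opens.ι_appLE]
    exact map_injective_of_eq O.ι_image_top.symm _
  apply hinj
  let c' : A →+* Γ(O.toScheme, ⊤) := O.ι.appTop.hom.comp c
  have hres : ∀ z : Γ(W, ⊤), O.ι.appLE O ⊤ (by simp) (W.presheaf.map (homOfLE (le_top : O ≤ ⊤)).op z) =
      O.ι.appTop z := fun z => by
    rw [← CommRingCat.comp_apply, Scheme.Hom.map_appLE]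
    exact ConcreteCategory.congr_hom (O.ι.app_eq_appLE (U := ⊤)).symm z
  have hu' : IsUnit (c' t) := by
    have hOW : O ≤ W.basicOpen (c t) := hO.trans_eq (ProjPt.pt_preimage_basicOpen 𝒜 c ht₀ one_pos hu ht one_pos)
    have h1 : IsUnit (W.presheaf.map (homOfLE hOW).op
        (W.presheaf.map (homOfLE (W.basicOpen_le (c t))).op (c t))) :=
      (RingedSpace.isUnit_res_basicOpen W.toRingedSpace (c t)).map _
    rw [← CommRingCat.comp_apply, ← Functor.map_comp] at h1
    show IsUnit (O.ι.appTop (c t))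
    rw [← hres]
    exact h1.map _
  rw [map_mul, hres, hres, ← CommRingCat.comp_apply, Scheme.Hom.appLE_comp_appLE]
  have hpt : O.ι ≫ ProjPt.pt 𝒜 c ht₀ one_pos hu = ProjPt.pt 𝒜 c' ht one_pos hu' := by
    rw [ProjPt.comp_pt]
    exact ProjPt.pt_indep 𝒜 c' ht₀ one_pos _ ht one_pos hu'
  rw [appLE_congr_hom hpt, ProjPt.pt_appLE]
  have := ProjPt.coordHom_mk_mul 𝒜 c' hu' ht 1 a (by rwa [one_smul])
  rw [pow_one] at this
  exact this

end Groth.Agent.PnCoh.Chow
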