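import Groth.Agent.PnCoh.Chow.PullFrame
import Groth.Agent.PnCoh.Finite.TwistTensor

/-!
# `(j_* O) ⊗ O(d)` is the direct image of a module with frames changing like `t ^ d`
-/

universe u

open CategoryTheory CategoryTheory.Limits AlgebraicGeometry TopologicalSpace Opposite MonoidalCategory
open Groth.Agent.KFlatLib

noncomputable section

namespace Groth.Agent.PnCoh.Chow

variable {R A : Type u} [CommRing R] [CommRing A] [Algebra R A]
  {𝒜 : ℕ → Submodule R A} [GradedAlgebra 𝒜] {κ : Type u} (g : κ → A) (hg : ∀ a, g a ∈ 𝒜 1)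
  (hcov : ⨆ a, Proj.basicOpen 𝒜 (g a) = ⊤) {Z : Scheme.{u}} (j : Z ⟶ Proj 𝒜) (M : Z.Modules) (d : ℕ)

/-- The direct image of the structure sheaf. -/
abbrev pushO : (Proj 𝒜).Modules := (Coh.push j).obj (Coh.structureModule Z)

/-- A module on `Z` with frames on the charts changing like `t ^ d`. -/
structure Frames where
  n : ∀ a, Γ(M, j ⁻¹ᵁ Proj.basicOpen 𝒜 (g a))
  frame : ∀ a, InvX.IsFrame (n a)
  change : ∀ (a b : κ) (W : Z.Opens) (ha : W ≤ j ⁻¹ᵁ Proj.basicOpen 𝒜 (g a))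
    (hb : W ≤ j ⁻¹ᵁ Proj.basicOpen 𝒜 (g b)),
    AModX.res M hb (n b) = ProjUPX.ratioOf j (hg b) (hg a) ha ^ d • AModX.res M ha (n a)

variable {g hg j M d} (F : Frames g hg j M d)

/-- The section as a section of the direct image. -/
def Frames.nPush (a : κ) : Γ((Coh.push j).obj M, Proj.basicOpen 𝒜 (g a)) := F.n a

include hcov in
theorem Frames.cov (y : Proj 𝒜) : ∃ a, y ∈ Proj.basicOpen 𝒜 (g a) :=
  Opens.mem_iSup.1 (hcov.ge (trivial : y ∈ (⊤ : (Proj 𝒜).Opens)))

theorem Frames.cond (a b : κ) (W : (Proj 𝒜).Opens) (ha : W ≤ Proj.basicOpen 𝒜 (g a))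
    (hb : W ≤ Proj.basicOpen 𝒜 (g b)) (c : Γ(Proj 𝒜, W))
    (hc : AModX.res (Twist.twist 𝒜 (d : ℤ)) hb (twF (hg b) (d : ℤ)) =
      c • AModX.res (Twist.twist 𝒜 (d : ℤ)) ha (twF (hg a) (d : ℤ))) :
    AModX.res ((Coh.push j).obj M) hb (F.nPush b) = c • AModX.res ((Coh.push j).obj M) ha (F.nPush a) := by
  rw [res_twF (hg a) (hg b) d ha hb] at hc
  obtain rfl := (isFrame_twF (hg a) (d : ℤ)).coord_unique ha hc
  show AModX.res M (j.preimage_mono hb) (F.n b) =
    j.app W (AModX.resR ha (sRatio (hg b) (hg a)) ^ d) • AModX.res M (j.preimage_mono ha) (F.n a)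
  rw [F.change a b (j ⁻¹ᵁ W) (j.preimage_mono ha) (j.preimage_mono hb), map_pow]
  refine congrArg (fun c => c ^ d • _) ?_
  rw [ProjUPX.ratioOf, Scheme.Hom.app_eq_appLE]
  exact (ConcreteCategory.congr_hom (Scheme.Hom.map_appLE j le_rfl (homOfLE ha).op) _).symm

/-- The morphism sending `t ^ d` to the frames. -/
def Frames.lam : Twist.twist 𝒜 (d : ℤ) ⟶ (Coh.push j).obj M :=
  InvX.ofFrames (U := fun a => Proj.basicOpen 𝒜 (g a)) (e := fun a => twF (hg a) (d : ℤ))
    (n := F.nPush) (Frames.cov hcov) (fun a => isFrame_twF (hg a) (d : ℤ)) F.cond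

theorem Frames.lam_app (a : κ) (W : (Proj 𝒜).Opens) (h : W ≤ Proj.basicOpen 𝒜 (g a)) :
    (F.lam hcov).app W (AModX.res (Twist.twist 𝒜 (d : ℤ)) h (twF (hg a) (d : ℤ))) =
      AModX.res ((Coh.push j).obj M) h (F.nPush a) :=
  InvX.ofFrames_app_res _ _ _ a h

variable (j M) in
/-- Scalars on the direct image. -/
def mulSec {W : (Proj 𝒜).Opens} (s : Γ(pushO j, W)) (m : Γ((Coh.push j).obj M, W)) :
    Γ((Coh.push j).obj M, W) :=
  show Γ(M, j ⁻¹ᵁ W) from (show Γ(Z, j ⁻¹ᵁ W) from s) • (show Γ(M, j ⁻¹ᵁ W) from m)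

theorem mulSec_smul_left {W : (Proj 𝒜).Opens} (c : Γ(Proj 𝒜, W)) (s : Γ(pushO j, W))
    (m : Γ((Coh.push j).obj M, W)) : mulSec j M (c • s) m = c • mulSec j M s m :=
  mul_smul (j.app W c) (show Γ(Z, j ⁻¹ᵁ W) from s) (show Γ(M, j ⁻¹ᵁ W) from m)

theorem mulSec_smul_right {W : (Proj 𝒜).Opens} (c : Γ(Proj 𝒜, W)) (s : Γ(pushO j, W))
    (m : Γ((Coh.push j).obj M, W)) : mulSec j M s (c • m) = c • mulSec j M s m :=
  smul_comm (show Γ(Z, j ⁻¹ᵁ W) from s) (j.app W c) (show Γ(M, j ⁻¹ᵁ W) from m)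

theorem res_mulSec {W W' : (Proj 𝒜).Opens} (h : W' ≤ W) (s : Γ(pushO j, W))
    (m : Γ((Coh.push j).obj M, W)) :
    AModX.res ((Coh.push j).obj M) h (mulSec j M s m) =
      mulSec j M (AModX.res (pushO j) h s) (AModX.res ((Coh.push j).obj M) h m) :=
  AModX.res_smul (M := M) (j.preimage_mono h) _ _

/-- The pairing. -/
def Frames.pairPre : DCoh.toP.obj (pushO j) ⊗ DCoh.toP.obj (Twist.twist 𝒜 (d : ℤ)) ⟶
    DCoh.toP.obj ((Coh.push j).obj M) where
  app U := ModuleCat.MonoidalCategory.tensorLift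
    (fun s t => mulSec j M (W := U.unop) s ((F.lam hcov).app U.unop t))
    (fun s s' t => add_smul (R := Γ(Z, j ⁻¹ᵁ U.unop)) (M := Γ(M, j ⁻¹ᵁ U.unop)) s s' _)
    (fun c s t => mulSec_smul_left c s _)
    (fun s t t' => (congrArg (mulSec j M (W := U.unop) s) (map_add ((F.lam hcov).app U.unop).hom t t')).trans
      (smul_add (M := Γ(Z, j ⁻¹ᵁ U.unop)) (A := Γ(M, j ⁻¹ᵁ U.unop)) s _ _))
    (fun c s t => (congrArg (mulSec j M (W := U.unop) s)
      (Scheme.Modules.Hom.app_smul (F.lam hcov) c t)).trans (mulSec_smul_right c s _))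
  naturality {U V} i := ModuleCat.MonoidalCategory.tensor_ext fun s t => by
    refine Eq.trans ?_ (res_mulSec i.unop.le s _).symm
    exact congrArg (mulSec j M _) (AModX.app_res (F.lam hcov) i.unop.le t)

theorem Frames.pairPre_tm {U : ((Proj 𝒜).Opens)ᵒᵖ} (s : (DCoh.toP.obj (pushO j)).obj U)
    (t : (DCoh.toP.obj (Twist.twist 𝒜 (d : ℤ))).obj U) :
    (F.pairPre hcov).app U (tm s t) = mulSec j M (W := U.unop) s ((F.lam hcov).app U.unop t) := rfl

section Stalk

variable (a : κ) {x : Proj 𝒜} (hx : x ∈ Proj.basicOpen 𝒜 (g a))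

/-- The map of stalks after trivializing `O(d)`. -/
def Frames.mu : (stalkMod x (DCoh.toP.obj (pushO j)) : Type u) →ₗ[(Proj 𝒜).presheaf.stalk x]
    (stalkMod x (DCoh.toP.obj ((Coh.push j).obj M)) : Type u) :=
  ((stalkP x).map (F.pairPre hcov)).hom ∘ₗ (tensorStalkEquiv _ _).toLinearMap ∘ₗ
    (TensorProduct.mk _ _ _).flip (Finite.stalkGen (hg a) hx (d : ℤ))

theorem Frames.mu_germ (W : (Proj 𝒜).Opens) (hW : W ≤ Proj.basicOpen 𝒜 (g a)) (hxW : x ∈ W)
    (s : Γ(pushO j, W)) :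
    F.mu hcov a hx (germP (DCoh.toP.obj (pushO j)) W hxW s) =
      germP (DCoh.toP.obj ((Coh.push j).obj M)) W hxW
        (mulSec j M s (AModX.res ((Coh.push j).obj M) hW (F.nPush a))) := by
  show ((stalkP x).map (F.pairPre hcov)).hom (tensorStalkEquiv _ _
    (germP (DCoh.toP.obj (pushO j)) W hxW s ⊗ₜ[(Proj 𝒜).presheaf.stalk x]
      Finite.stalkGen (hg a) hx (d : ℤ))) = _
  rw [Finite.stalkGen_eq (hg a) hx (d : ℤ) W hW hxW]
  refine (congrArg _ (ofTensor_germ W hxW s _)).trans ?_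
  refine (stalkModMap_germ (F.pairPre hcov) W hxW _).trans ?_
  exact congrArg (germP (DCoh.toP.obj ((Coh.push j).obj M)) W hxW)
    ((F.pairPre_tm hcov (U := op W) _ _).trans (congrArg (mulSec j M s) (F.lam_app hcov a W hW)))

theorem Frames.bijective_mulSec (W : (Proj 𝒜).Opens) (hW : W ≤ Proj.basicOpen 𝒜 (g a)) :
    Function.Bijective fun s : Γ(pushO j, W) =>
      mulSec j M s (AModX.res ((Coh.push j).obj M) hW (F.nPush a)) :=
  F.frame a _ (j.preimage_mono hW)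

theorem Frames.mu_bijective : Function.Bijective (F.mu hcov a hx) := by
  refine ⟨(injective_iff_map_eq_zero _).2 fun r hr => ?_, fun m => ?_⟩
  · obtain ⟨W₀, hxW₀, c₀, rfl⟩ := exists_germP (P := DCoh.toP.obj (pushO j)) r
    let W := W₀ ⊓ Proj.basicOpen 𝒜 (g a)
    have hW : W ≤ Proj.basicOpen 𝒜 (g a) := inf_le_right
    have hxW : x ∈ W := ⟨hxW₀, hx⟩
    let i : W ⟶ W₀ := homOfLE inf_le_left
    rw [← germP_res i hxW, F.mu_germ hcov a hx W hW hxW] at hr
    obtain ⟨W', hxW', k, k', hk⟩ := TopCat.Presheaf.germ_eq (C := AddCommGrpCat.{u})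
      (DCoh.toP.obj ((Coh.push j).obj M)).presheaf x hxW hxW _ 0
      (hr.trans (map_zero (germP (DCoh.toP.obj ((Coh.push j).obj M)) W hxW)).symm)
    have key : mulSec j M (AModX.res (pushO j) k.le (AModX.res (pushO j) i.le c₀))
        (AModX.res ((Coh.push j).obj M) (k.le.trans hW) (F.nPush a)) = 0 := by
      rw [← AModX.res_res hW k.le, ← res_mulSec]
      exact hk.trans (map_zero _)
    have h0 := (F.bijective_mulSec a W' (k.le.trans hW)).1 (key.trans (zero_smul Γ(Z, j ⁻¹ᵁ W')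
      (show Γ(M, j ⁻¹ᵁ W') from AModX.res ((Coh.push j).obj M) (k.le.trans hW) (F.nPush a))).symm)
    rw [← germP_res i hxW, ← germP_res k hxW']
    exact (congrArg (germP (DCoh.toP.obj (pushO j)) W' hxW') h0).trans (map_zero _)
  · obtain ⟨W₀, hxW₀, s₀, rfl⟩ := exists_germP m
    let W := W₀ ⊓ Proj.basicOpen 𝒜 (g a)
    have hW : W ≤ Proj.basicOpen 𝒜 (g a) := inf_le_right
    have hxW : x ∈ W := ⟨hxW₀, hx⟩
    let i : W ⟶ W₀ := homOfLE inf_le_left
    obtain ⟨c, hc⟩ := (F.bijective_mulSec a W hW).2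
      (res (DCoh.toP.obj ((Coh.push j).obj M)) i s₀)
    refine ⟨germP (DCoh.toP.obj (pushO j)) W hxW c, ?_⟩
    rw [F.mu_germ hcov a hx W hW hxW, ← germP_res i hxW s₀]
    exact congrArg _ hc

include a hx in
theorem Frames.isIso_stalk_pairPre : IsIso ((stalkP x).map (F.pairPre hcov)) := by
  rw [ConcreteCategory.isIso_iff_bijective]
  let gen := Finite.stalkGen (hg a) hx (d : ℤ)
  let eb := LinearEquiv.ofBijective _ (Finite.stalkGen_bijective (hg a) hx (d : ℤ))
  let T := (TensorProduct.congr (LinearEquiv.refl _ (stalkMod x (DCoh.toP.obj (pushO j)) : Type u))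
    eb).symm.trans (TensorProduct.rid _ _)
  let L : (stalkMod x (DCoh.toP.obj (pushO j) ⊗ DCoh.toP.obj (Twist.twist 𝒜 (d : ℤ))) : Type u)
      →ₗ[(Proj 𝒜).presheaf.stalk x] (stalkMod x (DCoh.toP.obj ((Coh.push j).obj M)) : Type u) :=
    ((stalkP x).map (F.pairPre hcov)).hom
  have key : ∀ z, L (tensorStalkEquiv _ _ z) = F.mu hcov a hx (T z) := by
    intro z
    induction z using TensorProduct.induction_on with
    | zero => simp only [map_zero]
    | add z z' hz hz' => simp only [map_add, hz, hz']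
    | tmul m n =>
      obtain ⟨r, rfl⟩ := eb.surjective n
      have hT : T (m ⊗ₜ eb r) = r • m := by
        show TensorProduct.rid _ _ ((TensorProduct.congr (LinearEquiv.refl _ _) eb).symm (m ⊗ₜ eb r)) = _
        rw [TensorProduct.congr_symm_tmul, LinearEquiv.symm_apply_apply, TensorProduct.rid_tmul]
        rfl
      rw [hT, map_smul]
      show L (tensorStalkEquiv _ _ (m ⊗ₜ[(Proj 𝒜).presheaf.stalk x] (r • gen))) = _
      rw [TensorProduct.tmul_smul, map_smul, map_smul]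
      rfl
  have e : ⇑L = F.mu hcov a hx ∘ T ∘ (tensorStalkEquiv _ _).symm := by
    funext z
    rw [Function.comp_apply, Function.comp_apply, ← key, LinearEquiv.apply_symm_apply]
  show Function.Bijective ⇑L
  rw [e]
  exact (F.mu_bijective hcov a hx).comp (T.bijective.comp (tensorStalkEquiv _ _).symm.bijective)

end Stalk

/-- The pairing on the tensor product. -/
def Frames.pairHom : Twist.twistBy 𝒜 (pushO j) (d : ℤ) ⟶ (Coh.push j).obj M :=
  ((PresheafOfModules.sheafificationAdjunction (𝟙 (Proj 𝒜).ringCatSheaf.obj)).homEquiv _ _).symm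
    (F.pairPre hcov)

theorem Frames.isIso_pairHom : IsIso (F.pairHom hcov) := by
  apply isIso_of_stalk
  intro x
  obtain ⟨a, ha⟩ := Frames.cov hcov x
  have h : unitShP (DCoh.toP.obj (pushO j) ⊗ DCoh.toP.obj (Twist.twist 𝒜 (d : ℤ))) ≫
      DCoh.toP.map (F.pairHom hcov) = F.pairPre hcov :=
    ((PresheafOfModules.sheafificationAdjunction (𝟙 (Proj 𝒜).ringCatSheaf.obj)).homEquiv_unit
      (f := F.pairHom hcov)).symm.trans (Equiv.apply_symm_apply _ _)
  haveI : IsIso ((stalkP x).map (DCoh.toP.map (F.pairHom hcov))) :=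
    @IsIso.of_isIso_fac_left _ _ _ _ _
      ((stalkP x).map (unitShP (DCoh.toP.obj (pushO j) ⊗ DCoh.toP.obj (Twist.twist 𝒜 (d : ℤ)))))
      _ ((stalkP x).map (F.pairPre hcov)) (isIso_stalk_unitShP _) (F.isIso_stalk_pairPre hcov a ha)
      (((stalkP x).map_comp _ _).symm.trans (congrArg (fun φ => (stalkP x).map φ) h))
  exact (NatIso.isIso_map_iff (stalkToPIso x) (F.pairHom hcov)).2 this

include F hcov in
theorem nonempty_twistBy_pushO_iso :
    Nonempty (Twist.twistBy 𝒜 (pushO j) (d : ℤ) ≅ (Coh.push j).obj M) :=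
  ⟨@asIso _ _ _ _ _ (F.isIso_pairHom hcov)⟩

end Groth.Agent.PnCoh.Chow
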